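import Mathlib

set_option autoImplicit false

/-!
# Homomorphisms of a finite `p`-group into the cyclic group of order `p`

`Cp p` is the cyclic group of order `p`, `annih p I` is the group of homomorphisms `G →* Cp p`
vanishing on `I`, `phiP p G` is the intersection of all kernels (the Frattini subgroup of a
`p`-group, but we never need this identification).
-/

namespace Cfsg.Agent.Lib.Helper72

open Subgroup

/-- the cyclic group of order `p` -/
abbrev Cp (p : ℕ) := Multiplicative (ZMod p)

section
variable {p : ℕ} [Fact p.Prime]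

instance : NeZero p := ⟨(Fact.out : p.Prime).ne_zero⟩

theorem card_Cp : Nat.card (Cp p) = p := by
  simp [Cp]

theorem pow_p_Cp (c : Cp p) : c ^ p = 1 := by
  have := pow_card_eq_one' (x := c)
  rwa [card_Cp] at this

variable {G : Type*} [Group G]

instance [Finite G] : Finite (G →* Cp p) :=
  Finite.of_injective (fun f : G →* Cp p => (f : G → Cp p)) DFunLike.coe_injective

theorem isPGroup_hom : IsPGroup p (G →* Cp p) := by
  intro α
  refine ⟨1, ?_⟩
  ext g
  simp only [pow_one, MonoidHom.pow_apply, MonoidHom.one_apply]
  rw [pow_p_Cp]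

/-- strict inclusion in a finite `p`-group drops the index by a factor at least `p` -/
theorem pgroup_index_of_lt [Finite G] (hG : IsPGroup p G) {A B : Subgroup G} (h : A < B) :
    p * B.index ≤ A.index := by
  have hp : p.Prime := Fact.out
  have h1 : A.relIndex B * B.index = A.index := relIndex_mul_index h.le
  have h2 : A.relIndex B ∣ Nat.card G := (relIndex_dvd_card A B).trans (card_subgroup_dvd_card B)
  obtain ⟨n, hn⟩ := hG.exists_card_eq
  rw [hn] at h2
  obtain ⟨k, -, hk'⟩ := (Nat.dvd_prime_pow hp).1 h2
  have hk0 : k ≠ 0 := by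
    rintro rfl
    rw [pow_zero, relIndex_eq_one] at hk'
    exact absurd hk' (not_le_of_gt h)
  have : p ≤ A.relIndex B := by
    rw [hk']
    calc p = p ^ 1 := (pow_one p).symm
      _ ≤ p ^ k := Nat.pow_le_pow_right hp.pos (Nat.one_le_iff_ne_zero.2 hk0)
  rw [← h1]
  exact Nat.mul_le_mul_right _ this

variable (p) in
/-- homomorphisms to `Cp p` vanishing on `I` -/
def annih (I : Subgroup G) : Subgroup (G →* Cp p) where
  carrier := {α | I ≤ α.ker}
  one_mem' := by
    intro x _
    simp
  mul_mem' := by
    intro a b ha hb x hx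
    have h1 := ha hx
    have h2 := hb hx
    rw [MonoidHom.mem_ker] at h1 h2 ⊢
    rw [MonoidHom.mul_apply, h1, h2, one_mul]
  inv_mem' := by
    intro a ha x hx
    have h1 := ha hx
    rw [MonoidHom.mem_ker] at h1 ⊢
    rw [MonoidHom.inv_apply, h1, inv_one]

theorem mem_annih {I : Subgroup G} {α : G →* Cp p} : α ∈ annih p I ↔ I ≤ α.ker := Iff.rfl

theorem annih_anti {I J : Subgroup G} (h : I ≤ J) : annih p J ≤ annih p I :=
  fun _ hα => h.trans hα

/-- one evaluation costs at most a factor `p` -/
theorem card_annih_le_mul [Finite G] (I : Subgroup G) (e : G) :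
    Nat.card (annih p I) ≤ p * Nat.card (annih p (I ⊔ zpowers e)) := by
  let ρ : annih p I →* Cp p := ((MonoidHom.eval e : (G →* Cp p) →* Cp p)).comp (annih p I).subtype
  have h1 : Nat.card ρ.ker * ρ.ker.index = Nat.card (annih p I) := card_mul_index _
  have h2 : ρ.ker.index ≤ p := by
    rw [index_ker]
    calc Nat.card ρ.range ≤ Nat.card (Cp p) := Nat.card_le_card_of_injective _ Subtype.val_injective
      _ = p := card_Cp
  have h3 : Nat.card ρ.ker ≤ Nat.card (annih p (I ⊔ zpowers e)) := by
    refine Nat.card_le_card_of_injective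
      (fun x : ρ.ker => (⟨x.1.1, ?_⟩ : annih p (I ⊔ zpowers e))) ?_
    · rw [mem_annih, sup_le_iff, zpowers_le]
      refine ⟨x.1.2, ?_⟩
      have := x.2
      rw [MonoidHom.mem_ker] at this ⊢
      exact this
    · intro x y hxy
      simp only [Subtype.mk.injEq] at hxy
      exact Subtype.ext (Subtype.ext hxy)
  calc Nat.card (annih p I) = Nat.card ρ.ker * ρ.ker.index := h1.symm
    _ ≤ Nat.card (annih p (I ⊔ zpowers e)) * p := Nat.mul_le_mul h3 h2
    _ = _ := Nat.mul_comm _ _

/-- there are at most `|G : I|` homomorphisms to `Cp p` vanishing on `I` -/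
theorem card_annih_le [Finite G] (hG : IsPGroup p G) (I : Subgroup G) :
    Nat.card (annih p I) ≤ I.index := by
  have hp : p.Prime := Fact.out
  have key : ∀ (n : ℕ) (I : Subgroup G), I.index = n → Nat.card (annih p I) ≤ n := by
    intro n
    induction n using Nat.strong_induction_on with
    | _ n ih =>
      intro I hI
      by_cases htop : I = ⊤
      · subst htop
        have : annih p (⊤ : Subgroup G) = ⊥ := by
          rw [eq_bot_iff]
          intro α hα
          rw [mem_bot]
          ext g
          have := hα (mem_top g)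
          rw [MonoidHom.mem_ker] at this
          rw [this, MonoidHom.one_apply]
        rw [this, ← hI]
        simp
      · obtain ⟨e, -, he⟩ := SetLike.exists_of_lt (lt_top_iff_ne_top.2 htop)
        have hlt : I < I ⊔ zpowers e := by
          refine lt_of_le_of_ne le_sup_left ?_
          intro h
          apply he
          rw [h]
          exact (le_sup_right : zpowers e ≤ I ⊔ zpowers e) (mem_zpowers e)
        have h1 := pgroup_index_of_lt hG hlt
        have hpos : 0 < (I ⊔ zpowers e).index := Nat.pos_of_ne_zero (index_ne_zero_of_finite)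
        have h2 : (I ⊔ zpowers e).index < n := by
          rw [← hI]
          calc (I ⊔ zpowers e).index < p * (I ⊔ zpowers e).index := by
                nth_rewrite 1 [← one_mul (I ⊔ zpowers e).index]
                exact Nat.mul_lt_mul_of_pos_right hp.one_lt hpos
            _ ≤ I.index := h1
        have h3 := ih _ h2 (I ⊔ zpowers e) rfl
        calc Nat.card (annih p I) ≤ p * Nat.card (annih p (I ⊔ zpowers e)) := card_annih_le_mul I e
          _ ≤ p * (I ⊔ zpowers e).index := Nat.mul_le_mul_left _ h3
          _ ≤ I.index := h1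
          _ = n := hI
  exact key _ I rfl

variable (p G) in
/-- the intersection of the kernels of all homomorphisms to `Cp p` -/
def phiP : Subgroup G := ⨅ α : G →* Cp p, α.ker

instance : (phiP p G).Normal := normal_iInf_normal fun α => α.normal_ker

theorem phiP_le_ker (α : G →* Cp p) : phiP p G ≤ α.ker := iInf_le _ α

theorem mem_phiP {g : G} : g ∈ phiP p G ↔ ∀ α : G →* Cp p, α g = 1 := by
  simp [phiP, mem_iInf, MonoidHom.mem_ker]

theorem commutator_le_phiP : commutator G ≤ phiP p G := by
  rw [commutator_def, commutator_le]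
  intro x _ y _
  rw [mem_phiP]
  intro α
  rw [map_commutatorElement, commutatorElement_eq_one_iff_mul_comm, mul_comm]

theorem annih_phiP : annih p (phiP p G) = ⊤ := by
  rw [eq_top_iff]
  intro α _
  exact phiP_le_ker α

/-- `|G : Φ| = |Hom(G, C_p)|` -/
theorem index_phiP [Finite G] (hG : IsPGroup p G) :
    (phiP p G).index = Nat.card (G →* Cp p) := by
  apply le_antisymm
  · -- evaluation embeds `G / Φ` in the double dual
    let ev : G →* ((G →* Cp p) →* Cp p) := MonoidHom.eval
    have hker : ev.ker = phiP p G := by
      ext g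
      rw [MonoidHom.mem_ker, mem_phiP]
      constructor
      · intro h α
        have := DFunLike.congr_fun h α
        simpa [ev] using this
      · intro h
        ext α
        simpa [ev] using h α
    rw [← hker, index_ker]
    have h1 : Nat.card ev.range ≤ Nat.card ((G →* Cp p) →* Cp p) :=
      Nat.card_le_card_of_injective _ Subtype.val_injective
    have h2 := card_annih_le (isPGroup_hom (p := p) (G := G)) ⊥
    have h3 : Nat.card (annih p (⊥ : Subgroup (G →* Cp p))) = Nat.card ((G →* Cp p) →* Cp p) := by
      have : annih p (⊥ : Subgroup (G →* Cp p)) = ⊤ := by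
        rw [eq_top_iff]
        intro α _
        rw [mem_annih]
        exact bot_le
      rw [this, card_top]
    rw [h3, index_bot] at h2
    exact h1.trans h2
  · have := card_annih_le hG (phiP p G)
    rwa [annih_phiP, card_top] at this

/-- a proper subgroup of a finite `p`-group lies in the kernel of a nontrivial hom to `Cp p` -/
theorem exists_hom_of_ne_top [Finite G] (hG : IsPGroup p G) {J : Subgroup G} (hJ : J ≠ ⊤) :
    ∃ κ : G →* Cp p, κ ≠ 1 ∧ J ≤ κ.ker := by
  have hp : p.Prime := Fact.out
  obtain ⟨n, hn⟩ := hG.exists_card_eq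
  obtain ⟨m, hm⟩ := (hG.to_subgroup J).exists_card_eq
  have hmn : m < n := by
    by_contra hcon
    push Not at hcon
    apply hJ
    apply eq_top_of_card_eq
    apply le_antisymm (Nat.card_le_card_of_injective _ Subtype.val_injective)
    rw [hn, hm]
    exact Nat.pow_le_pow_right hp.pos hcon
  obtain ⟨K, hK, hJK⟩ := Sylow.exists_subgroup_card_pow_prime_le p (n := m) (m := n - 1)
    (by rw [hn]; exact pow_dvd_pow _ (Nat.sub_le _ _)) J hm (by omega)
  have hidx : K.index = p := by
    have h1 := card_mul_index K
    rw [hK, hn] at h1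
    have h2 : p ^ n = p ^ (n - 1) * p := by
      rw [← pow_succ]
      congr 1
      omega
    rw [h2] at h1
    exact Nat.eq_of_mul_eq_mul_left (pow_pos hp.pos _) h1
  have hnorm : K.Normal := by
    apply normal_of_index_eq_minFac_card
    rw [hidx, hn, hp.pow_minFac (by omega)]
  have hcard : Nat.card (G ⧸ K) = p := hidx
  let e : (G ⧸ K) ≃* Cp p := mulEquivOfPrimeCardEq hcard card_Cp
  refine ⟨e.toMonoidHom.comp (QuotientGroup.mk' K), ?_, ?_⟩
  · intro h
    have hKtop : K = ⊤ := by
      rw [eq_top_iff]
      intro g _
      have := DFunLike.congr_fun h g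
      simp only [MonoidHom.coe_comp, Function.comp_apply, MonoidHom.one_apply] at this
      have h2 : (QuotientGroup.mk' K) g = 1 := by
        apply e.injective
        rw [map_one]
        exact this
      rwa [QuotientGroup.mk'_apply, QuotientGroup.eq_one_iff] at h2
    rw [hKtop, index_top] at hidx
    exact hp.one_lt.ne hidx
  · intro g hg
    rw [MonoidHom.mem_ker]
    simp only [MonoidHom.coe_comp, Function.comp_apply]
    have : (QuotientGroup.mk' K) g = 1 := by
      rw [QuotientGroup.mk'_apply, QuotientGroup.eq_one_iff]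
      exact hJK hg
    rw [this]
    exact map_one _

/-- the kernel of a nontrivial hom to `Cp p` has index `p` -/
theorem index_ker_of_ne_one {α : G →* Cp p} (hα : α ≠ 1) : α.ker.index = p := by
  have hp : p.Prime := Fact.out
  rw [index_ker]
  have h1 : Nat.card α.range ∣ p := by
    have := card_subgroup_dvd_card α.range
    rwa [card_Cp] at this
  rcases (Nat.dvd_prime hp).1 h1 with h | h
  · exfalso
    apply hα
    ext g
    have : α.range = ⊥ := by
      rwa [← card_eq_one]
    have h2 : α g ∈ α.range := ⟨g, rfl⟩
    rw [this, mem_bot] at h2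
    rw [h2, MonoidHom.one_apply]
  · exact h

/-- elements outside `Φ`-supplement: `closure S ⊔ Φ = ⊤` forces `closure S = ⊤` -/
theorem eq_top_of_sup_phiP [Finite G] (hG : IsPGroup p G) {J : Subgroup G}
    (h : J ⊔ phiP p G = ⊤) : J = ⊤ := by
  by_contra hJ
  obtain ⟨κ, hκ, hJκ⟩ := exists_hom_of_ne_top hG hJ
  apply hκ
  have : (⊤ : Subgroup G) ≤ κ.ker := by
    rw [← h]
    exact sup_le hJκ (phiP_le_ker κ)
  ext g
  have h2 := this (mem_top g)
  rw [MonoidHom.mem_ker] at h2
  rw [h2, MonoidHom.one_apply]

end

end Cfsg.Agent.Lib.Helper72
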