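import Mathlib
import Cfsg.Agent.Lib.Helper72.PHom

set_option autoImplicit false

/-!
# Bounds for commutator subgroups `[A, G]` in finite `p`-groups
-/

namespace Cfsg.Agent.Lib.Helper72

open Subgroup
open scoped commutatorElement

set_option linter.style.haveILetI false

variable {G : Type*} [Group G]

/-- `[A, G]` -/
abbrev cm (A : Subgroup G) : Subgroup G := ⁅A, (⊤ : Subgroup G)⁆

theorem comm_mul_left (a b v : G) : ⁅a * b, v⁆ = a * ⁅b, v⁆ * a⁻¹ * ⁅a, v⁆ := by
  simp only [commutatorElement_def]; group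

theorem comm_mul_right (v g h : G) : ⁅v, g * h⁆ = ⁅v, g⁆ * (g * ⁅v, h⁆ * g⁻¹) := by
  simp only [commutatorElement_def]; group

theorem comm_inv_left (a v : G) : ⁅a⁻¹, v⁆ = a⁻¹ * ⁅a, v⁆⁻¹ * a := by
  simp only [commutatorElement_def]; group

theorem conj_eq_comm_mul (g x : G) : g * x * g⁻¹ = ⁅g, x⁆ * x := by
  simp only [commutatorElement_def]; group

/-- preimage of the centre of `G / Y` -/
def cenMod (Y : Subgroup G) [Y.Normal] : Subgroup G :=
  (center (G ⧸ Y)).comap (QuotientGroup.mk' Y)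

theorem mem_cenMod {Y : Subgroup G} [Y.Normal] {x : G} : x ∈ cenMod Y ↔ ∀ g, ⁅x, g⁆ ∈ Y := by
  rw [cenMod, mem_comap, mem_center_iff]
  have hmk : ∀ a b : G, ((⁅a, b⁆ : G) : G ⧸ Y) = ⁅(QuotientGroup.mk' Y a), (QuotientGroup.mk' Y b)⁆ :=
    fun a b => map_commutatorElement (QuotientGroup.mk' Y) a b
  constructor
  · intro h g
    rw [← QuotientGroup.eq_one_iff, hmk,
      commutatorElement_eq_one_iff_mul_comm]
    exact (h (QuotientGroup.mk' Y g)).symm
  · intro h q
    obtain ⟨g, rfl⟩ := QuotientGroup.mk'_surjective Y q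
    have := h g
    rw [← QuotientGroup.eq_one_iff, hmk,
      commutatorElement_eq_one_iff_mul_comm] at this
    exact this.symm

theorem mk_mem_center {Y : Subgroup G} [Y.Normal] {x : G} (hx : x ∈ cenMod Y) :
    (QuotientGroup.mk' Y x) ∈ center (G ⧸ Y) := hx

theorem le_cenMod_commutator (I : Subgroup G) [I.Normal] : I ≤ cenMod ⁅I, (⊤ : Subgroup G)⁆ := by
  intro x hx
  rw [mem_cenMod]
  intro g
  exact commutator_mem_commutator hx (mem_top g)

theorem normal_of_le_cenMod {Z Y : Subgroup G} [Z.Normal] (h1 : Z ≤ Y) (h2 : Y ≤ cenMod Z) :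
    Y.Normal := by
  constructor
  intro x hx g
  rw [conj_eq_comm_mul]
  refine Y.mul_mem (h1 ?_) hx
  have := mem_cenMod.1 (h2 hx) g
  rw [← commutatorElement_inv]
  exact Z.inv_mem this

theorem normal_of_commutator_le {I : Subgroup G} (h : commutator G ≤ I) : I.Normal := by
  constructor
  intro x hx g
  rw [conj_eq_comm_mul]
  refine I.mul_mem (h ?_) hx
  rw [_root_.commutator_def]
  exact commutator_mem_commutator (mem_top g) (mem_top x)

/-- card of the preimage of a subgroup of a quotient -/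
theorem card_comap_mk' [Finite G] (B : Subgroup G) [B.Normal] (T : Subgroup (G ⧸ B)) :
    Nat.card (T.comap (QuotientGroup.mk' B)) = Nat.card B * Nat.card T := by
  have h1 : (T.comap (QuotientGroup.mk' B)).index = T.index :=
    index_comap_of_surjective T (QuotientGroup.mk'_surjective B)
  have h2 := card_mul_index (T.comap (QuotientGroup.mk' B))
  have h3 := card_mul_index T
  have h4 := card_mul_index B
  have h5 : Nat.card (G ⧸ B) = B.index := rfl
  rw [h1] at h2
  have hpos : 0 < T.index := Nat.pos_of_ne_zero index_ne_zero_of_finite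
  apply Nat.eq_of_mul_eq_mul_right hpos
  rw [h2, ← h4, ← h5, ← h3, mul_assoc]

/-- adding one generator `v` to a normal subgroup `I ≥ G'` enlarges `[I, G]` by a factor at most
`|G : I⟨v⟩|` -/
theorem card_commutator_sup_zpowers_le [Finite G] (I : Subgroup G) (hI : commutator G ≤ I)
    (v : G) :
    Nat.card (cm (I ⊔ zpowers v)) ≤
      Nat.card (cm I) * (I ⊔ zpowers v).index := by
  haveI : I.Normal := normal_of_commutator_le hI
  set B : Subgroup G := ⁅I, (⊤ : Subgroup G)⁆ with hB
  have hcomI : ∀ g : G, ⁅v, g⁆ ∈ I := fun g => hI (by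
    rw [_root_.commutator_def]; exact commutator_mem_commutator (mem_top v) (mem_top g))
  have hcen : ∀ g : G, (QuotientGroup.mk' B ⁅v, g⁆) ∈ center (G ⧸ B) := fun g =>
    mk_mem_center (le_cenMod_commutator I (hcomI g))
  let ψ : G →* G ⧸ B := MonoidHom.mk' (fun g => QuotientGroup.mk' B ⁅v, g⁆) (by
    intro g h
    rw [comm_mul_right, map_mul, map_mul, map_mul, map_inv]
    have := mem_center_iff.1 (hcen h) (QuotientGroup.mk' B g)
    rw [this, mul_inv_cancel_right])
  have hψ : ∀ g, ψ g = QuotientGroup.mk' B ⁅v, g⁆ := fun g => rfl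
  have hker : I ⊔ zpowers v ≤ ψ.ker := by
    rw [sup_le_iff, zpowers_le]
    constructor
    · intro u hu
      rw [MonoidHom.mem_ker, hψ, QuotientGroup.mk'_apply, QuotientGroup.eq_one_iff, hB,
        commutator_comm]
      exact commutator_mem_commutator (mem_top v) hu
    · rw [MonoidHom.mem_ker, hψ, commutatorElement_self, map_one]
  have hrange : Nat.card ψ.range ≤ (I ⊔ zpowers v).index := by
    rw [← index_ker]
    exact Nat.le_of_dvd (Nat.pos_of_ne_zero index_ne_zero_of_finite) (index_dvd_of_le hker)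
  set Y : Subgroup G := ψ.range.comap (QuotientGroup.mk' B) with hY
  have hBY : B ≤ Y := by
    intro x hx
    rw [hY, mem_comap, QuotientGroup.mk'_apply, (QuotientGroup.eq_one_iff x).2 hx]
    exact one_mem _
  have hYcen : Y ≤ cenMod B := by
    intro x hx
    rw [hY, mem_comap] at hx
    obtain ⟨g, hg⟩ := hx
    rw [cenMod, mem_comap, ← hg]
    exact hcen g
  haveI : Y.Normal := normal_of_le_cenMod hBY hYcen
  have hle : ⁅I ⊔ zpowers v, (⊤ : Subgroup G)⁆ ≤ Y := by
    have h1 : I ⊔ zpowers v ≤ cenMod Y := by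
      rw [sup_le_iff, zpowers_le]
      constructor
      · intro u hu
        rw [mem_cenMod]
        intro g
        exact hBY (commutator_mem_commutator hu (mem_top g))
      · rw [mem_cenMod]
        intro g
        rw [hY, mem_comap]
        exact ⟨g, rfl⟩
    rw [commutator_le]
    intro x hx g _
    exact mem_cenMod.1 (h1 hx) g
  calc Nat.card (cm (I ⊔ zpowers v)) ≤ Nat.card Y := card_le_of_le hle
    _ = Nat.card B * Nat.card ψ.range := card_comap_mk' B _
    _ ≤ Nat.card B * (I ⊔ zpowers v).index := Nat.mul_le_mul_left _ hrange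

/-- `|G'| ≤ |[I, G]| p^{k(k-1)/2}` for `G' ≤ I` of index `p ^ k` -/
theorem card_commutator_le_of_index [Finite G] {p : ℕ} [Fact p.Prime] (hG : IsPGroup p G) :
    ∀ (k : ℕ) (I : Subgroup G), commutator G ≤ I → I.index = p ^ k →
      Nat.card (commutator G) ≤ Nat.card (cm I) * p ^ (k * (k - 1) / 2) := by
  have hp : p.Prime := Fact.out
  intro k
  induction k using Nat.strong_induction_on with
  | _ k ih =>
    intro I hI hk
    by_cases htop : I = ⊤
    · subst htop
      rw [_root_.commutator_def]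
      exact Nat.le_mul_of_pos_right _ (pow_pos hp.pos _)
    · obtain ⟨v, -, hv⟩ := SetLike.exists_of_lt (lt_top_iff_ne_top.2 htop)
      have hlt : I < I ⊔ zpowers v := by
        refine lt_of_le_of_ne le_sup_left ?_
        intro h
        apply hv
        rw [h]
        exact (le_sup_right : zpowers v ≤ I ⊔ zpowers v) (mem_zpowers v)
      have h1 := pgroup_index_of_lt hG hlt
      obtain ⟨n, hn⟩ := hG.exists_card_eq
      have h2 : (I ⊔ zpowers v).index ∣ p ^ n := hn ▸ index_dvd_card _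
      obtain ⟨k', -, hk'⟩ := (Nat.dvd_prime_pow hp).1 h2
      have hkk : k' + 1 ≤ k := by
        rw [hk', hk, ← pow_succ'] at h1
        exact (Nat.pow_le_pow_iff_right hp.one_lt).1 h1
      have h3 := ih k' (by omega) (I ⊔ zpowers v) (hI.trans le_sup_left) hk'
      have h4 := card_commutator_sup_zpowers_le I hI v
      rw [hk'] at h4
      have h5 : k' + k' * (k' - 1) / 2 ≤ k * (k - 1) / 2 := by
        obtain ⟨j, rfl⟩ : ∃ j, k = k' + 1 + j := ⟨k - (k' + 1), by omega⟩
        have e1 : k' + k' * (k' - 1) / 2 = (k' + 1) * k' / 2 := by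
          rcases k' with _ | m
          · simp
          · have : (m + 1 + 1) * (m + 1) = (m + 1) * 2 + (m + 1) * (m + 1 - 1) := by
              simp only [Nat.add_sub_cancel]; ring
            rw [this, mul_comm (m + 1) 2, Nat.mul_add_div (by norm_num : 0 < 2)]
        rw [e1]
        apply Nat.div_le_div_right
        have : k' + 1 + j - 1 = k' + j := by omega
        rw [this]
        nlinarith
      calc Nat.card (commutator G)
          ≤ Nat.card (cm (I ⊔ zpowers v)) * p ^ (k' * (k' - 1) / 2) := h3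
        _ ≤ (Nat.card (cm I) * p ^ k') * p ^ (k' * (k' - 1) / 2) :=
            Nat.mul_le_mul_right _ h4
        _ = Nat.card (cm I) * p ^ (k' + k' * (k' - 1) / 2) := by
            rw [mul_assoc, ← pow_add]
        _ ≤ Nat.card (cm I) * p ^ (k * (k - 1) / 2) :=
            Nat.mul_le_mul_left _ (Nat.pow_le_pow_right hp.pos h5)

/-- strict inclusion in a finite `p`-group: relative index at least `p` -/
theorem pgroup_le_relIndex_of_lt [Finite G] {p : ℕ} [Fact p.Prime] (hG : IsPGroup p G)
    {A B : Subgroup G} (h : A < B) : p ≤ A.relIndex B := by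
  have hp : p.Prime := Fact.out
  have h2 : A.relIndex B ∣ Nat.card G := (relIndex_dvd_card A B).trans (card_subgroup_dvd_card B)
  obtain ⟨n, hn⟩ := hG.exists_card_eq
  rw [hn] at h2
  obtain ⟨k, -, hk'⟩ := (Nat.dvd_prime_pow hp).1 h2
  have hk0 : k ≠ 0 := by
    rintro rfl
    rw [pow_zero, relIndex_eq_one] at hk'
    exact absurd hk' (not_le_of_gt h)
  rw [hk']
  calc p = p ^ 1 := (pow_one p).symm
    _ ≤ p ^ k := Nat.pow_le_pow_right hp.pos (Nat.one_le_iff_ne_zero.2 hk0)

/-- elements of `A` commuting with `v` modulo `Z` -/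
def DZ (A Z : Subgroup G) [hZ : Z.Normal] (v : G) : Subgroup G where
  carrier := {a | a ∈ A ∧ ⁅a, v⁆ ∈ Z}
  one_mem' := ⟨A.one_mem, by rw [commutatorElement_one_left]; exact Z.one_mem⟩
  mul_mem' := by
    rintro a b ⟨ha, ha'⟩ ⟨hb, hb'⟩
    refine ⟨A.mul_mem ha hb, ?_⟩
    rw [comm_mul_left]
    exact Z.mul_mem (hZ.conj_mem _ hb' a) ha'
  inv_mem' := by
    rintro a ⟨ha, ha'⟩
    refine ⟨A.inv_mem ha, ?_⟩
    rw [comm_inv_left]
    have := hZ.conj_mem _ (Z.inv_mem ha') a⁻¹
    simpa using this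

theorem mem_DZ {A Z : Subgroup G} [Z.Normal] {v a : G} :
    a ∈ DZ A Z v ↔ a ∈ A ∧ ⁅a, v⁆ ∈ Z := Iff.rfl

theorem DZ_le (A Z : Subgroup G) [Z.Normal] (v : G) : DZ A Z v ≤ A := fun _ h => h.1

theorem DZ_mono (A : Subgroup G) {Z Z' : Subgroup G} [Z.Normal] [Z'.Normal] (h : Z ≤ Z') (v : G) :
    DZ A Z v ≤ DZ A Z' v := fun _ ha => ⟨ha.1, h ha.2⟩

/-- the series `A, [A,G], [A,G,G], …` -/
def ser (A : Subgroup G) : ℕ → Subgroup G
  | 0 => A
  | n + 1 => cm (ser A n)

theorem ser_normal (A : Subgroup G) [A.Normal] (n : ℕ) : (ser A n).Normal := by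
  induction n with
  | zero => exact ‹A.Normal›
  | succ n ih =>
    haveI := ih
    exact commutator_normal _ _

theorem ser_le_lcs (A : Subgroup G) (n : ℕ) :
    ser A n ≤ (⊤ : Subgroup G).lowerCentralSeries n := by
  induction n with
  | zero => exact le_top
  | succ n ih => exact commutator_mono ih le_rfl

theorem ser_le (A : Subgroup G) [A.Normal] (n : ℕ) : ser A n ≤ A := by
  induction n with
  | zero => exact le_rfl
  | succ n ih =>
    haveI := ser_normal A n
    exact (commutator_le_left _ _).trans ih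

theorem le_cenMod_self (Z : Subgroup G) [hZ : Z.Normal] : Z ≤ cenMod Z := by
  intro z hz
  rw [mem_cenMod]
  intro g
  have : ⁅z, g⁆ = z * (g * z⁻¹ * g⁻¹) := by simp only [commutatorElement_def]; group
  rw [this]
  exact Z.mul_mem hz (hZ.conj_mem _ (Z.inv_mem hz) g)

/-- the basic step: below `[A,G]` and above `Z` there is a commutator `[a,v]`, `v ∈ S`, central
of order `p` modulo `Z` -/
theorem exists_step [Finite G] {p : ℕ} [Fact p.Prime] (hG : IsPGroup p G) (A : Subgroup G)
    [A.Normal] (S : Set G) (hS : closure S = ⊤) (Z : Subgroup G) [Z.Normal] (hZ : Z < cm A) :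
    ∃ a v : G, a ∈ A ∧ v ∈ S ∧ ⁅a, v⁆ ∉ Z ∧ ⁅a, v⁆ ^ p ∈ Z ∧ ⁅a, v⁆ ∈ cenMod Z ∧
      ⁅a, v⁆ ∈ cm A := by
  classical
  have hp : p.Prime := Fact.out
  haveI : Group.IsNilpotent G := hG.isNilpotent
  obtain ⟨n, hn⟩ := Subgroup.nilpotent_iff_lowerCentralSeries.1 (inferInstance : Group.IsNilpotent G)
  have hex : ∃ k, ser A k ≤ Z := ⟨n, (ser_le_lcs A n).trans (hn ▸ bot_le)⟩
  set k₀ := Nat.find hex with hk₀
  have hk₀le : ser A k₀ ≤ Z := Nat.find_spec hex
  have h1 : ¬ ser A 1 ≤ Z := fun h => absurd h (not_le_of_gt hZ)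
  have h0 : ¬ ser A 0 ≤ Z := fun h => h1 ((commutator_le_left A ⊤).trans h)
  obtain ⟨j, hj⟩ : ∃ j, k₀ = j + 2 := by
    rcases Nat.lt_or_ge k₀ 2 with h | h
    · interval_cases k₀
      · exact absurd hk₀le h0
      · exact absurd hk₀le h1
    · exact ⟨k₀ - 2, by omega⟩
  have hj1 : ¬ ser A (j + 1) ≤ Z := Nat.find_min hex (by omega)
  rw [hj] at hk₀le
  set A' := ser A j with hA'
  haveI : A'.Normal := ser_normal A j
  have hA'A : A' ≤ A := ser_le A j
  have hcen : cm A' ≤ cenMod Z := by
    intro x hx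
    rw [mem_cenMod]
    intro g
    exact hk₀le (commutator_mem_commutator hx (mem_top g))
  -- some generator acts nontrivially
  have hex2 : ∃ a ∈ A', ∃ v ∈ S, ⁅a, v⁆ ∉ Z := by
    by_contra hcon
    push Not at hcon
    apply hj1
    let W : Subgroup G := (centralizer ((A'.map (QuotientGroup.mk' Z) : Subgroup (G ⧸ Z)) :
      Set (G ⧸ Z))).comap (QuotientGroup.mk' Z)
    have hW : ∀ g, g ∈ W ↔ ∀ a ∈ A', ⁅a, g⁆ ∈ Z := by
      intro g
      simp only [W, mem_comap, mem_centralizer_iff]
      constructor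
      · intro h a ha
        have := h (QuotientGroup.mk' Z a) ⟨a, ha, rfl⟩
        rw [← QuotientGroup.eq_one_iff]
        have e : ((⁅a, g⁆ : G) : G ⧸ Z) = ⁅(QuotientGroup.mk' Z a), (QuotientGroup.mk' Z g)⁆ :=
          map_commutatorElement (QuotientGroup.mk' Z) a g
        rw [e, commutatorElement_eq_one_iff_mul_comm]
        exact this
      · rintro h _ ⟨a, ha, rfl⟩
        have := h a ha
        rw [← QuotientGroup.eq_one_iff] at this
        have e : ((⁅a, g⁆ : G) : G ⧸ Z) = ⁅(QuotientGroup.mk' Z a), (QuotientGroup.mk' Z g)⁆ :=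
          map_commutatorElement (QuotientGroup.mk' Z) a g
        rw [e, commutatorElement_eq_one_iff_mul_comm] at this
        exact this
    have hSW : closure S ≤ W := by
      rw [closure_le]
      intro v hv
      exact (hW v).2 fun a ha => hcon a ha v hv
    rw [hS] at hSW
    change cm A' ≤ Z
    rw [cm, commutator_le]
    intro a ha g _
    exact (hW g).1 (hSW (mem_top g)) a ha
  obtain ⟨a, ha, v, hv, hav⟩ := hex2
  have hcenv : ∀ b ∈ A', (QuotientGroup.mk' Z ⁅b, v⁆) ∈ center (G ⧸ Z) := fun b hb =>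
    mk_mem_center (hcen (commutator_mem_commutator hb (mem_top v)))
  let θ : A' →* G ⧸ Z := MonoidHom.mk' (fun b => QuotientGroup.mk' Z ⁅(b : G), v⁆) (by
    intro b c
    rw [coe_mul, comm_mul_left, map_mul, map_mul, map_mul, map_inv]
    have h1 := mem_center_iff.1 (hcenv c c.2) (QuotientGroup.mk' Z b)
    rw [h1, mul_inv_cancel_right]
    exact (mem_center_iff.1 (hcenv c c.2) _).symm)
  have hθ : ∀ b : A', θ b = QuotientGroup.mk' Z ⁅(b : G), v⁆ := fun b => rfl
  set y := θ ⟨a, ha⟩ with hy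
  have hy1 : y ≠ 1 := by
    rw [hy, hθ, QuotientGroup.mk'_apply, Ne, QuotientGroup.eq_one_iff]
    exact hav
  obtain ⟨s, hs⟩ := (IsPGroup.iff_orderOf.1 (hG.to_quotient Z)) y
  have hs0 : s ≠ 0 := by
    rintro rfl
    rw [pow_zero, orderOf_eq_one_iff] at hs
    exact hy1 hs
  have hpdvd : p ∣ orderOf y := by
    rw [hs]
    exact dvd_pow_self p hs0
  have hord : orderOf (y ^ (orderOf y / p)) = p :=
    orderOf_pow_orderOf_div (orderOf_pos y).ne' hpdvd
  set m := orderOf y / p with hm
  have hym : θ (⟨a, ha⟩ ^ m) = y ^ m := map_pow θ _ m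
  refine ⟨a ^ m, v, hA'A (A'.pow_mem ha m), hv, ?_, ?_, ?_, ?_⟩
  · intro h
    have h2 : y ^ m = 1 := by
      rw [← hym, hθ, QuotientGroup.mk'_apply, QuotientGroup.eq_one_iff]
      exact h
    rw [h2, orderOf_one] at hord
    exact hp.one_lt.ne hord
  · rw [← QuotientGroup.eq_one_iff]
    have h2 : (y ^ m) ^ p = 1 := by
      rw [← hord]
      exact pow_orderOf_eq_one _
    rw [← hym, hθ] at h2
    exact h2
  · exact hcen (commutator_mem_commutator (A'.pow_mem ha m) (mem_top v))
  · exact commutator_mem_commutator (hA'A (A'.pow_mem ha m)) (mem_top v)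

theorem relIndex_ne_zero_fin [Finite G] (H K : Subgroup G) : H.relIndex K ≠ 0 :=
  index_ne_zero_of_finite

theorem relIndex_sup_zpowers_le {p : ℕ} (hp0 : 0 < p) (Z : Subgroup G) [Z.Normal] (c : G)
    (hc : c ^ p ∈ Z) : Z.relIndex (Z ⊔ zpowers c) ≤ p := by
  rw [relIndex_sup_left]
  have h1 : (QuotientGroup.mk' Z).ker.relIndex (zpowers c) =
      Nat.card ((zpowers c).map (QuotientGroup.mk' Z)) := relIndex_ker _ _
  rw [QuotientGroup.ker_mk'] at h1
  rw [h1, MonoidHom.map_zpowers, Nat.card_zpowers]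
  apply Nat.le_of_dvd hp0
  apply orderOf_dvd_of_pow_eq_one
  rw [← map_pow, QuotientGroup.mk'_apply, QuotientGroup.eq_one_iff]
  exact hc

/-- **Generators lemma.**  If `S` generates the finite `p`-group `G` and `A ⊴ G` then
`|[A, G]| ≤ ∏_{v ∈ S} |A : C_A(v)|`. -/
theorem card_cm_le_prod [Finite G] {p : ℕ} [Fact p.Prime] (hG : IsPGroup p G) (A : Subgroup G)
    [A.Normal] (S : Finset G) (hS : closure (S : Set G) = ⊤) :
    Nat.card (cm A) ≤ ∏ v ∈ S, (centralizer {v}).relIndex A := by
  classical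
  have hp : p.Prime := Fact.out
  have key : ∀ (n : ℕ) (Z : Subgroup G) [Z.Normal], Z ≤ cm A → Z.relIndex (cm A) = n →
      n ≤ ∏ v ∈ S, (DZ A Z v).relIndex A := by
    intro n
    induction n using Nat.strong_induction_on with
    | _ n ih =>
      intro Z _ hZ hn
      have hpos : ∀ (Z' : Subgroup G) [Z'.Normal] (v : G), 0 < (DZ A Z' v).relIndex A :=
        fun Z' _ v => Nat.pos_of_ne_zero (relIndex_ne_zero_fin _ _)
      rcases eq_or_lt_of_le hZ with heq | hlt
      · have : n = 1 := by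
          rw [← hn, relIndex_eq_one, heq]
        rw [this]
        exact Nat.one_le_iff_ne_zero.2 (Finset.prod_ne_zero_iff.2 fun v _ => (hpos Z v).ne')
      · obtain ⟨a, v, haA, hvS, hc1, hc2, hc3, hc4⟩ := exists_step hG A (S : Set G) hS Z hlt
        set c := ⁅a, v⁆ with hc
        set Z' := Z ⊔ zpowers c with hZ'
        have hZZ' : Z ≤ Z' := le_sup_left
        have hcZ' : c ∈ Z' := (le_sup_right : zpowers c ≤ Z') (mem_zpowers c)
        haveI : Z'.Normal := normal_of_le_cenMod hZZ'
          (sup_le (le_cenMod_self Z) ((zpowers_le).2 hc3))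
        have hZ'A : Z' ≤ cm A := sup_le hZ ((zpowers_le).2 hc4)
        have hlt' : Z < Z' := lt_of_le_of_ne hZZ' (fun h => hc1 (h ▸ hcZ'))
        have h1 : Z.relIndex Z' ≤ p := relIndex_sup_zpowers_le hp.pos Z c hc2
        have h2 : Z.relIndex Z' * Z'.relIndex (cm A) = n := by
          rw [relIndex_mul_relIndex Z Z' (cm A) hZZ' hZ'A, hn]
        have h3 : p ≤ Z.relIndex Z' := pgroup_le_relIndex_of_lt hG hlt'
        have h4 : 0 < Z'.relIndex (cm A) := Nat.pos_of_ne_zero (relIndex_ne_zero_fin _ _)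
        have h5 : Z'.relIndex (cm A) < n := by
          rw [← h2]
          calc Z'.relIndex (cm A) = 1 * Z'.relIndex (cm A) := (one_mul _).symm
            _ < Z.relIndex Z' * Z'.relIndex (cm A) :=
              Nat.mul_lt_mul_of_pos_right (lt_of_lt_of_le hp.one_lt h3) h4
        have h6 := ih _ h5 Z' hZ'A rfl
        have hDlt : DZ A Z v < DZ A Z' v := by
          refine lt_of_le_of_ne (DZ_mono A hZZ' v) ?_
          intro h
          have : a ∈ DZ A Z' v := ⟨haA, hcZ'⟩
          rw [← h] at this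
          exact hc1 this.2
        have h7 : p * (DZ A Z' v).relIndex A ≤ (DZ A Z v).relIndex A := by
          rw [← relIndex_mul_relIndex (DZ A Z v) (DZ A Z' v) A (DZ_mono A hZZ' v) (DZ_le A Z' v)]
          exact Nat.mul_le_mul_right _ (pgroup_le_relIndex_of_lt hG hDlt)
        calc n = Z.relIndex Z' * Z'.relIndex (cm A) := h2.symm
          _ ≤ p * ∏ w ∈ S, (DZ A Z' w).relIndex A := Nat.mul_le_mul h1 h6
          _ = p * ((DZ A Z' v).relIndex A * ∏ w ∈ S.erase v, (DZ A Z' w).relIndex A) := by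
              rw [Finset.mul_prod_erase S (fun w => (DZ A Z' w).relIndex A) hvS]
          _ = (p * (DZ A Z' v).relIndex A) * ∏ w ∈ S.erase v, (DZ A Z' w).relIndex A := by
              rw [mul_assoc]
          _ ≤ (DZ A Z v).relIndex A * ∏ w ∈ S.erase v, (DZ A Z w).relIndex A := by
              apply Nat.mul_le_mul h7
              apply Finset.prod_le_prod'
              intro w _
              exact relIndex_le_of_le_left (DZ_mono A hZZ' w) (relIndex_ne_zero_fin _ _)
          _ = ∏ w ∈ S, (DZ A Z w).relIndex A :=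
              Finset.mul_prod_erase S (fun w => (DZ A Z w).relIndex A) hvS
  have h := key _ ⊥ bot_le rfl
  rw [relIndex_bot_left] at h
  refine h.trans (le_of_eq ?_)
  apply Finset.prod_congr rfl
  intro v _
  have : DZ A ⊥ v = centralizer {v} ⊓ A := by
    ext a
    rw [mem_DZ, mem_inf, mem_bot, commutatorElement_eq_one_iff_mul_comm,
      mem_centralizer_singleton_iff]
    constructor
    · rintro ⟨h1, h2⟩
      exact ⟨h2, h1⟩
    · rintro ⟨h1, h2⟩
      exact ⟨h2, h1⟩
  rw [this, inf_relIndex_right]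

end Cfsg.Agent.Lib.Helper72
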