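import Cfsg.Agent.Lib.Helper71.Gag.Basic
import Cfsg.Agent.Lib.Helper71.TwoClosed

set_option autoImplicit false

namespace Cfsg.Agent.Lib.Helper72.Gag

open Cfsg.Agent.Lib.Helper71.Gag Cfsg.Agent.Lib.Helper71

/-- an element of odd order whose square is trivial is trivial -/
theorem two_odd_sq {G : Type*} [Group G] {y : G} (ho : Odd (orderOf y)) (h : y * y = 1) :
    y = 1 := by
  have h1 : orderOf y ∣ 2 := orderOf_dvd_of_pow_eq_one (by rw [sq]; exact h)
  have h2 : orderOf y = 1 := by
    rcases (Nat.dvd_prime Nat.prime_two).mp h1 with h3 | h3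
    · exact h3
    · rw [h3] at ho
      exact absurd ho (by decide)
  exact orderOf_eq_one_iff.mp h2

theorem two {G : Type*} [Group G] [Finite G] {N : Subgroup G} [N.Normal] (D : Dat 2 N)
    (hc : N = Cfsg.pCore 2 G) : ∃ H : Subgroup G, N.IsComplement' H := by
  have : Fact (Nat.Prime 2) := ⟨Nat.prime_two⟩
  have hNn : N.Normal := inferInstance
  have hfpf := fpf D
  have hcn := cn D hc
  obtain ⟨k, hk⟩ := IsPGroup.iff_card.mp D.pg
  -- (i) exponent 2
  have hk0 : k ≠ 0 := by
    rintro rfl
    rw [pow_zero] at hk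
    exact D.ne ((Subgroup.card_eq_one).mp hk)
  have h2N : 2 ∣ Nat.card N := by rw [hk]; exact dvd_pow_self 2 hk0
  obtain ⟨x0, hx0⟩ := exists_prime_orderOf_dvd_card' (G := N) 2 h2N
  have hx0' : orderOf (x0 : G) = 2 := by rw [Subgroup.orderOf_coe, hx0]
  have hx01 : (x0 : G) ≠ 1 := by
    intro h
    rw [h, orderOf_one] at hx0'
    omega
  have hexp : ∀ n ∈ N, n * n = 1 := by
    intro n hn
    by_cases hn1 : n = 1
    · rw [hn1, one_mul]
    · obtain ⟨g, hg⟩ := isConj_iff.mp (D.c1 x0 x0.2 n hn hx01 hn1)
      have h1 : (x0 : G) * x0 = 1 := by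
        have := pow_orderOf_eq_one (x0 : G)
        rwa [hx0', sq] at this
      rw [← hg]
      calc g * x0 * g⁻¹ * (g * x0 * g⁻¹) = g * ((x0 : G) * x0) * g⁻¹ := by group
        _ = 1 := by rw [h1]; group
  -- (ii) every involution lies in N
  have hinvol : ∀ t : G, t * t = 1 → t ∈ N := by
    intro t ht
    by_contra htN
    apply htN
    apply hcn
    intro n hn
    obtain ⟨g, hg⟩ := isConj_iff.mp (D.c2 t htN n hn)
    have h1 : (t * n) * (t * n) = 1 := by
      rw [← hg]
      calc g * t * g⁻¹ * (g * t * g⁻¹) = g * (t * t) * g⁻¹ := by group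
        _ = 1 := by rw [ht]; group
    have h2 := hexp n hn
    have hti : t⁻¹ = t := inv_eq_of_mul_eq_one_left ht
    have hni : n⁻¹ = n := inv_eq_of_mul_eq_one_left h2
    have h3 : (t * n)⁻¹ = t * n := inv_eq_of_mul_eq_one_left h1
    rw [← h3, mul_inv_rev, hti, hni]
  -- (iii)
  have hNoInv : NoInv G := by
    intro s y hs hy hsy
    obtain ⟨a, ha⟩ := hs
    by_contra hy1
    have hycop : (orderOf y).Coprime 2 := Nat.Coprime.symm (Nat.coprime_two_left.mpr hy)
    rcases Nat.lt_or_ge a 2 with ha2 | ha2
    · -- s * s = 1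
      have hss : s * s = 1 := by
        have h1 : orderOf s ∣ 2 := by
          rw [ha]
          interval_cases a
          · norm_num
          · norm_num
        have := orderOf_dvd_iff_pow_eq_one.mp h1
        rwa [sq] at this
      have hsN : s ∈ N := hinvol s hss
      have hyy : y * y ∈ N := by
        have e : y * y = (y * s * y⁻¹) * s⁻¹ := by
          calc y * y = y * (y⁻¹)⁻¹ := by group
            _ = y * (s * y * s⁻¹)⁻¹ := by rw [hsy]
            _ = (y * s * y⁻¹) * s⁻¹ := by group
        rw [e]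
        exact N.mul_mem (hNn.conj_mem s hsN y) (N.inv_mem hsN)
      have h4 : (y * y) * (y * y) = 1 := hexp _ hyy
      have hoyy : Odd (orderOf (y * y)) := by
        have h5 : orderOf (y * y) ∣ orderOf y := by
          rw [← sq]; exact orderOf_pow_dvd 2
        exact Odd.of_dvd_nat hy h5
      have h6 : y * y = 1 := two_odd_sq hoyy h4
      exact hy1 (two_odd_sq hy h6)
    · -- the involution in ⟨s⟩ is a power of s²
      obtain ⟨b, rfl⟩ : ∃ b, a = b + 2 := ⟨a - 2, by omega⟩
      set u := (s * s) ^ (2 ^ b) with hu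
      have hus : u = s ^ (2 ^ (b + 1)) := by
        rw [hu, ← sq, ← pow_mul, pow_succ, mul_comm]
      have huu : u * u = 1 := by
        rw [hus, ← pow_add]
        have : 2 ^ (b + 1) + 2 ^ (b + 1) = 2 ^ (b + 2) := by ring
        rw [this, ← ha, pow_orderOf_eq_one]
      have hu1 : u ≠ 1 := by
        intro h
        rw [hus] at h
        have h1 := orderOf_dvd_of_pow_eq_one h
        rw [ha] at h1
        have h2 := Nat.le_of_dvd (by positivity) h1
        have h3 : 2 ^ (b + 1) < 2 ^ (b + 2) := Nat.pow_lt_pow_right (by norm_num) (by omega)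
        omega
      have huN : u ∈ N := hinvol u huu
      have hcomm2 : Commute (s * s) y := by
        have h1 : s * y = y⁻¹ * s := by
          calc s * y = s * y * s⁻¹ * s := by group
            _ = y⁻¹ * s := by rw [hsy]
        have h2 : s * y⁻¹ = y * s := by
          calc s * y⁻¹ = (s * y * s⁻¹)⁻¹ * s := by group
            _ = y * s := by rw [hsy, inv_inv]
        change s * s * y = y * (s * s)
        calc s * s * y = s * (s * y) := by group
          _ = s * (y⁻¹ * s) := by rw [h1]
          _ = (s * y⁻¹) * s := by group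
          _ = y * s * s := by rw [h2]
          _ = y * (s * s) := by group
      have hcomm : y * u = u * y := ((hcomm2.pow_left (2 ^ b)).eq).symm
      exact hy1 (hfpf u huN hu1 y hcomm hycop)
  -- (iv)
  obtain ⟨P⟩ : Nonempty (Sylow 2 G) := inferInstance
  have hPn := sylow_two_normal hNoInv P
  have hPN : (P : Subgroup G) ≤ N := by
    rw [hc]
    exact le_sSup ⟨hPn, P.isPGroup'⟩
  have hidx : N.index ∣ (P : Subgroup G).index := Subgroup.index_dvd_of_le hPN
  have hPidx : ¬ 2 ∣ (P : Subgroup G).index := P.not_dvd_index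
  have hcop : (Nat.card N).Coprime N.index := by
    rw [hk]
    apply Nat.Coprime.pow_left
    exact (Nat.Prime.coprime_iff_not_dvd Nat.prime_two).mpr (fun h => hPidx (dvd_trans h hidx))
  exact Subgroup.exists_right_complement'_of_coprime hcop

end Cfsg.Agent.Lib.Helper72.Gag
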