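import Mathlib

set_option autoImplicit false

namespace Cfsg.Agent.Lib.Helper72.MatSN

open scoped MatrixGroups Matrix Kronecker

variable {F : Type*} [Field F]

/-- Skolem–Noether for the matrix algebra. -/
theorem mat_skolem_noether {a : ℕ} (α : Matrix (Fin a) (Fin a) F ≃ₐ[F] Matrix (Fin a) (Fin a) F) :
    ∃ y : GL (Fin a) F, ∀ x, α x = (y : Matrix (Fin a) (Fin a) F) * x *
      ((y⁻¹ : GL (Fin a) F) : Matrix (Fin a) (Fin a) F) := by
  let L : Matrix (Fin a) (Fin a) F ≃ₐ[F] Module.End F (Fin a → F) := Matrix.toLinAlgEquiv'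
  obtain ⟨T, hT⟩ := AlgEquiv.eq_linearEquivConjAlgEquiv (L.symm.trans (α.trans L))
  have h1 : L.symm (T : Module.End F (Fin a → F)) * L.symm (T.symm : Module.End F (Fin a → F)) = 1 := by
    rw [← map_mul]
    have : (T : Module.End F (Fin a → F)) * (T.symm : Module.End F (Fin a → F)) = 1 := by
      ext v; simp
    rw [this, map_one]
  have h2 : L.symm (T.symm : Module.End F (Fin a → F)) * L.symm (T : Module.End F (Fin a → F)) = 1 := by
    rw [← map_mul]
    have : (T.symm : Module.End F (Fin a → F)) * (T : Module.End F (Fin a → F)) = 1 := by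
      ext v; simp
    rw [this, map_one]
  refine ⟨⟨_, _, h1, h2⟩, ?_⟩
  intro x
  have h3 := congrArg (fun f => L.symm (f (L x))) hT
  simp only [AlgEquiv.trans_apply, AlgEquiv.symm_apply_apply, LinearEquiv.conjAlgEquiv_apply] at h3
  rw [h3]
  change _ = L.symm (T : Module.End F (Fin a → F)) * x * L.symm (T.symm : Module.End F (Fin a → F))
  apply L.injective
  rw [map_mul, map_mul, AlgEquiv.apply_symm_apply, AlgEquiv.apply_symm_apply,
    AlgEquiv.apply_symm_apply]
  rfl

end Cfsg.Agent.Lib.Helper72.MatSN
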