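import Cfsg.Agent.Lib.Helper72.SuzA5

/-!
# Ladder SUZ2, rung A1
-/

set_option autoImplicit false

namespace Cfsg.Agent.Lib.Helper72.Suz

variable {F : Type*} [Field F] [Fintype F] [CharP F 2]

omit [CharP F 2] in
/-- the Frobenius powers are linearly independent -/
lemma frob_coeff_unique (n : ℕ) (hn : Fintype.card F = 2 ^ n) (c : Fin n → F)
    (h : ∀ u : F, ∑ r : Fin n, c r * u ^ (2 ^ (r : ℕ)) = 0) : c = 0 := by
  have hli := linearIndependent_monoidHom F F
  let v : Fin n → (F →* F) := fun r => powMonoidHom (2 ^ (r : ℕ))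
  have hv : Function.Injective v := by
    intro i j hij
    apply Fin.ext
    apply frob_pow_inj n hn i.2 j.2
    intro b
    exact DFunLike.congr_fun hij b
  have hli2 := hli.comp v hv
  rw [Fintype.linearIndependent_iff] at hli2
  funext r
  apply hli2 c
  funext u
  simpa [v, Finset.sum_apply] using h u

/-- A1 -/
theorem exists_frob_coeff (n : ℕ) (hn : Fintype.card F = 2 ^ n) (f : F →+ F) :
    ∃ c : ℕ → F, ∀ u, f u = ∑ r ∈ Finset.range n, c r * u ^ (2 ^ r) := by
  letI : Algebra (ZMod 2) F := ZMod.algebra F 2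
  have hfr : Module.finrank (ZMod 2) F = n := by
    have h := Module.card_eq_pow_finrank (K := ZMod 2) (V := F)
    rw [hn, ZMod.card] at h
    exact (Nat.pow_right_injective (le_refl 2) h).symm
  let inner : (Fin n → F) → (F →+ F) := fun c =>
    { toFun := fun u => ∑ r : Fin n, c r * u ^ (2 ^ (r : ℕ))
      map_zero' := by simp
      map_add' := fun x y => by simp only [add_pow_two_pow, mul_add, Finset.sum_add_distrib] }
  let Φ0 : (Fin n → F) →+ (F →ₗ[ZMod 2] F) :=
    { toFun := fun c => (inner c).toZModLinearMap 2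
      map_zero' := by ext u; simp [inner]
      map_add' := fun c d => by ext u; simp [inner, add_mul, Finset.sum_add_distrib] }
  let Φ : (Fin n → F) →ₗ[ZMod 2] (F →ₗ[ZMod 2] F) := Φ0.toZModLinearMap 2
  have hΦ : ∀ c u, Φ c u = ∑ r : Fin n, c r * u ^ (2 ^ (r : ℕ)) := fun c u => rfl
  have hinj : Function.Injective Φ := by
    rw [← LinearMap.ker_eq_bot, LinearMap.ker_eq_bot']
    intro c hc
    apply frob_coeff_unique n hn c
    intro u
    rw [← hΦ, hc]; rfl
  have hsurj : Function.Surjective Φ := by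
    apply (LinearMap.injective_iff_surjective_of_finrank_eq_finrank ?_).1 hinj
    rw [Module.finrank_linearMap, Module.finrank_pi_fintype]
    simp [hfr]
  obtain ⟨c, hc⟩ := hsurj (f.toZModLinearMap 2)
  refine ⟨fun r => if h : r < n then c ⟨r, h⟩ else 0, fun u => ?_⟩
  have h1 : f u = Φ c u := by rw [hc]; rfl
  rw [h1, hΦ, Finset.sum_range]
  apply Finset.sum_congr rfl
  intro r _
  simp

end Cfsg.Agent.Lib.Helper72.Suz
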