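import Cfsg.Agent.Lib.Helper72.SuzA5

/-!
# Ladder SUZ2, rung A3
-/

set_option autoImplicit false

namespace Cfsg.Agent.Lib.Helper72.Suz

variable {F : Type*} [Field F] [Fintype F] [CharP F 2]

omit [CharP F 2] in
private lemma A3_core [DecidableEq F] (n : ℕ) (M : AddSubgroup (F →+ F))
    (hM : ∀ t : F, t ≠ 0 → ∀ f ∈ M, ∃ g ∈ M, ∀ u, g (t * u) = t * f u)
    (f : F →+ F) (hf : f ∈ M) (c : ℕ → F)
    (hc : ∀ u, f u = ∑ r ∈ Finset.range n, c r * u ^ (2 ^ r))
    (r : ℕ) (hr : r < n) (τ : Fˣ → F) (hτ : ∀ t, τ t = 0 ∨ τ t = 1)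
    (hsum : ∀ s, s < n →
      ∑ t : Fˣ, τ t * ((t : F) * ((t : F)⁻¹) ^ (2 ^ s)) = if s = r then 1 else 0) :
    ∃ g ∈ M, ∀ u, g u = c r * u ^ (2 ^ r) := by
  classical
  have h1 : ∀ t : Fˣ, ∃ g ∈ M, ∀ u, g u = (t : F) * f ((t : F)⁻¹ * u) := by
    intro t
    obtain ⟨g, hg, hgu⟩ := hM t t.ne_zero f hf
    refine ⟨g, hg, fun u => ?_⟩
    rw [← hgu, mul_inv_cancel_left₀ t.ne_zero]
  choose g hgM hg using h1
  refine ⟨∑ t ∈ Finset.univ.filter (fun t => τ t = 1), g t, M.sum_mem (fun t _ => hgM t),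
    fun u => ?_⟩
  rw [AddMonoidHom.finsetSum_apply, Finset.sum_filter]
  have h2 : ∀ t : Fˣ, (if τ t = 1 then g t u else 0) = ∑ s ∈ Finset.range n,
      c s * u ^ (2 ^ s) * (τ t * ((t : F) * ((t : F)⁻¹) ^ (2 ^ s))) := by
    intro t
    rcases hτ t with h | h
    · simp [h]
    · rw [if_pos h, hg, hc, Finset.mul_sum]
      apply Finset.sum_congr rfl
      intro s _
      rw [h, mul_pow]; ring
  rw [Finset.sum_congr rfl (fun t _ => h2 t), Finset.sum_comm]
  have h3 : ∀ s ∈ Finset.range n,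
      ∑ t : Fˣ, c s * u ^ (2 ^ s) * (τ t * ((t : F) * ((t : F)⁻¹) ^ (2 ^ s)))
        = if s = r then c r * u ^ (2 ^ r) else 0 := by
    intro s hs
    rw [← Finset.mul_sum, hsum s (Finset.mem_range.1 hs)]
    split_ifs with h
    · subst h; ring
    · ring
  rw [Finset.sum_congr rfl h3, Finset.sum_ite_eq']
  simp [hr]

omit [CharP F 2] in
private lemma A3_chi (n : ℕ) (hn : Fintype.card F = 2 ^ n) (s : ℕ) (hs : s < n) (t : Fˣ) :
    (t : F) * ((t : F)⁻¹) ^ (2 ^ s) = (t : F) ^ (2 ^ n - 2 ^ s) := by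
  have hle : 2 ^ s ≤ 2 ^ n := Nat.pow_le_pow_right (by norm_num) hs.le
  have h1 : (t : F) ^ (2 ^ n - 2 ^ s) * (t : F) ^ (2 ^ s) = t := by
    rw [← pow_add, Nat.sub_add_cancel hle, ← hn, FiniteField.pow_card]
  rw [inv_pow, eq_comm, eq_mul_inv_iff_mul_eq₀ (pow_ne_zero _ t.ne_zero), h1]

private lemma A3_trace (n : ℕ) (hn : Fintype.card F = 2 ^ n) (x : F) :
    ∑ i ∈ Finset.range n, x ^ (2 ^ i) = 0 ∨ ∑ i ∈ Finset.range n, x ^ (2 ^ i) = 1 := by
  set T := ∑ i ∈ Finset.range n, x ^ (2 ^ i) with hT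
  have h1 : T ^ 2 = ∑ i ∈ Finset.range n, x ^ (2 ^ (i + 1)) := by
    rw [hT, sum_pow_char 2]
    apply Finset.sum_congr rfl
    intro i _
    rw [← pow_mul, pow_succ]
  have h2 : ∑ i ∈ Finset.range n, x ^ (2 ^ (i + 1)) + x ^ (2 ^ 0) = T + x ^ (2 ^ n) := by
    rw [hT, ← Finset.sum_range_succ, ← Finset.sum_range_succ' (fun i => x ^ (2 ^ i))]
  rw [← hn, FiniteField.pow_card, pow_zero, pow_one] at h2
  have h3 : T ^ 2 = T := by rw [h1]; exact add_right_cancel h2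
  have h4 : T * (T - 1) = 0 := by linear_combination h3
  rcases mul_eq_zero.1 h4 with h | h
  · exact Or.inl h
  · exact Or.inr (sub_eq_zero.1 h)

private lemma A3_nt (n r s i : ℕ) (hr0 : 0 < r) (hr : r < n) (hs : s < n) (hi : i < n) :
    (2 ^ n - 1) ∣ (2 ^ r - 1) * 2 ^ i + (2 ^ n - 2 ^ s) ↔ (i = 0 ∧ s = r) := by
  have hpos : ∀ k : ℕ, 1 ≤ 2 ^ k := fun k => Nat.one_le_two_pow
  have hhalf : ∀ k, k < n → 2 * 2 ^ k ≤ 2 ^ n := by
    intro k hk
    rw [← pow_succ']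
    exact Nat.pow_le_pow_right (by norm_num) hk
  have hn4 : 4 ≤ 2 ^ n := by
    calc 4 = 2 ^ 2 := by norm_num
      _ ≤ 2 ^ n := Nat.pow_le_pow_right (by norm_num) (by omega)
  constructor
  · intro hdvd
    -- the reduced exponent
    obtain ⟨a, ha, hamod, hai⟩ : ∃ a, a < n ∧ 2 ^ (r + i) ≡ 2 ^ a [MOD 2 ^ n - 1] ∧
        (a = r + i ∨ a + n = r + i) := by
      rcases Nat.lt_or_ge (r + i) n with h | h
      · exact ⟨r + i, h, Nat.ModEq.refl _, Or.inl rfl⟩
      · refine ⟨r + i - n, by omega, ?_, Or.inr (by omega)⟩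
        have h1 : 2 ^ (r + i) = 2 ^ n * 2 ^ (r + i - n) := by
          rw [← pow_add]; congr 1; omega
        have h2 : 2 ^ n ≡ 1 [MOD 2 ^ n - 1] := by
          have : 2 ^ n = (2 ^ n - 1) + 1 := by have := hpos n; omega
          conv_lhs => rw [this]
          simp [Nat.ModEq]
        rw [h1]
        simpa using h2.mul_right (2 ^ (r + i - n))
    have h2n : 2 ^ n ≡ 1 [MOD 2 ^ n - 1] := by
      have : 2 ^ n = (2 ^ n - 1) + 1 := by have := hpos n; omega
      conv_lhs => rw [this]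
      simp [Nat.ModEq]
    have hE : (2 ^ r - 1) * 2 ^ i + (2 ^ n - 2 ^ s) + (2 ^ i + 2 ^ s) = 2 ^ (r + i) + 2 ^ n := by
      have h1 : (2 ^ r - 1) * 2 ^ i + 2 ^ i = 2 ^ (r + i) := by
        rw [pow_add]
        have := hpos r
        obtain ⟨k, hk⟩ : ∃ k, 2 ^ r = k + 1 := ⟨2 ^ r - 1, by omega⟩
        rw [hk]; simp; ring
      have h2 : 2 ^ s ≤ 2 ^ n := Nat.pow_le_pow_right (by norm_num) hs.le
      omega
    have h0 : (2 ^ r - 1) * 2 ^ i + (2 ^ n - 2 ^ s) ≡ 0 [MOD 2 ^ n - 1] :=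
      (Nat.modEq_zero_iff_dvd).2 hdvd
    have h3 : 2 ^ i + 2 ^ s ≡ 2 ^ a + 1 [MOD 2 ^ n - 1] := by
      have h4 := h0.add_right (2 ^ i + 2 ^ s)
      rw [hE, zero_add] at h4
      exact h4.symm.trans (hamod.add h2n)
    have heq : 2 ^ i + 2 ^ s = 2 ^ a + 1 := by
      have hi2 := hhalf i hi
      have hs2 := hhalf s hs
      have ha2 := hhalf a ha
      have hi1 := hpos i
      have hs1 := hpos s
      have ha1 := hpos a
      rcases Nat.le_total (2 ^ i + 2 ^ s) (2 ^ a + 1) with hle | hle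
      · have h5 := (Nat.modEq_iff_dvd' hle).1 h3
        have h6 := Nat.eq_zero_of_dvd_of_lt h5 (by omega)
        omega
      · have h5 := (Nat.modEq_iff_dvd' hle).1 h3.symm
        have h6 := Nat.eq_zero_of_dvd_of_lt h5 (by omega)
        omega
    rcases Nat.eq_zero_or_pos i with hi0 | hi0
    · subst hi0
      refine ⟨rfl, ?_⟩
      have h7 : 2 ^ s = 2 ^ a := by
        rw [pow_zero] at heq; omega
      have := Nat.pow_right_injective (le_refl 2) h7
      omega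
    · exfalso
      obtain ⟨i', rfl⟩ : ∃ i', i = i' + 1 := ⟨i - 1, by omega⟩
      rw [pow_succ 2 i'] at heq
      have hi1 := hpos i'
      rcases Nat.eq_zero_or_pos s with hs0 | hs0
      · subst hs0
        have h7 : 2 ^ (i' + 1) = 2 ^ a := by
          rw [pow_succ, ]; rw [pow_zero] at heq; omega
        have := Nat.pow_right_injective (le_refl 2) h7
        omega
      · obtain ⟨s', rfl⟩ : ∃ s', s = s' + 1 := ⟨s - 1, by omega⟩
        rw [pow_succ 2 s'] at heq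
        have hs1 := hpos s'
        rcases Nat.eq_zero_or_pos a with ha0 | ha0
        · subst ha0
          rw [pow_zero] at heq
          omega
        · obtain ⟨a', rfl⟩ : ∃ a', a = a' + 1 := ⟨a - 1, by omega⟩
          rw [pow_succ 2 a'] at heq
          omega
  · rintro ⟨rfl, rfl⟩
    have h1 := hpos s
    have h2 : 2 ^ s ≤ 2 ^ n := Nat.pow_le_pow_right (by norm_num) hs.le
    have : (2 ^ s - 1) * 2 ^ 0 + (2 ^ n - 2 ^ s) = 2 ^ n - 1 := by
      rw [pow_zero, mul_one]; omega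
    rw [this]

/-- A3 -/
theorem frob_component_mem (n : ℕ) (hn : Fintype.card F = 2 ^ n) (M : AddSubgroup (F →+ F))
    (hM : ∀ t : F, t ≠ 0 → ∀ f ∈ M, ∃ g ∈ M, ∀ u, g (t * u) = t * f u)
    (f : F →+ F) (hf : f ∈ M) (c : ℕ → F)
    (hc : ∀ u, f u = ∑ r ∈ Finset.range n, c r * u ^ (2 ^ r))
    (r : ℕ) (hr : r < n) : ∃ g ∈ M, ∀ u, g u = c r * u ^ (2 ^ r) := by
  classical
  have hneg : (-1 : F) = 1 := by
    rw [CharTwo.neg_eq]
  rcases Nat.eq_zero_or_pos r with hr0 | hr0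
  · subst hr0
    apply A3_core n M hM f hf c hc 0 hr (fun _ => 1) (fun _ => Or.inr rfl)
    intro s hs
    simp only [one_mul]
    rw [Finset.sum_congr rfl (fun t _ => A3_chi n hn s hs t), FiniteField.sum_pow_units, hn, hneg]
    have h1 : 1 ≤ 2 ^ s := Nat.one_le_two_pow
    have h2 : 2 * 2 ^ s ≤ 2 ^ n := by
      rw [← pow_succ']
      exact Nat.pow_le_pow_right (by norm_num) hs
    by_cases h : s = 0
    · subst h
      simp
    · rw [if_neg h, if_neg]
      intro hdvd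
      have h3 : 2 ≤ 2 ^ s := by
        calc 2 = 2 ^ 1 := by norm_num
          _ ≤ 2 ^ s := Nat.pow_le_pow_right (by norm_num) (by omega)
      have := Nat.le_of_dvd (by omega) hdvd
      omega
  · apply A3_core n M hM f hf c hc r hr
      (fun t => ∑ i ∈ Finset.range n, ((t : F) ^ (2 ^ r - 1)) ^ (2 ^ i))
      (fun t => A3_trace n hn _)
    intro s hs
    have h1 : ∀ t : Fˣ, (∑ i ∈ Finset.range n, ((t : F) ^ (2 ^ r - 1)) ^ (2 ^ i)) *
        ((t : F) * ((t : F)⁻¹) ^ (2 ^ s))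
        = ∑ i ∈ Finset.range n, (t : F) ^ ((2 ^ r - 1) * 2 ^ i + (2 ^ n - 2 ^ s)) := by
      intro t
      rw [A3_chi n hn s hs t, Finset.sum_mul]
      apply Finset.sum_congr rfl
      intro i _
      rw [← pow_mul, ← pow_add]
    rw [Finset.sum_congr rfl (fun t _ => h1 t), Finset.sum_comm]
    have h2 : ∀ i ∈ Finset.range n,
        ∑ t : Fˣ, (t : F) ^ ((2 ^ r - 1) * 2 ^ i + (2 ^ n - 2 ^ s))
          = if i = 0 then (if s = r then 1 else 0) else 0 := by
      intro i hi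
      rw [FiniteField.sum_pow_units, hn, hneg]
      have := A3_nt n r s i hr0 hr hs (Finset.mem_range.1 hi)
      by_cases hi0 : i = 0
      · by_cases hsr : s = r
        · rw [if_pos (this.2 ⟨hi0, hsr⟩), if_pos hi0, if_pos hsr]
        · rw [if_neg (fun h => hsr (this.1 h).2), if_pos hi0, if_neg hsr]
      · rw [if_neg (fun h => hi0 (this.1 h).1), if_neg hi0]
    rw [Finset.sum_congr rfl h2, Finset.sum_ite_eq']
    have : 0 ∈ Finset.range n := Finset.mem_range.2 (by omega)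
    rw [if_pos this]

end Cfsg.Agent.Lib.Helper72.Suz
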