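import Mathlib

/-!
# Ladder SUZ2, rung A4
-/

set_option autoImplicit false

namespace Cfsg.Agent.Lib.Helper72.Suz

variable {F : Type*} [Field F] [Fintype F] [CharP F 2]

/-- A4 -/
theorem frob_full (M : AddSubgroup (F →+ F))
    (hM : ∀ t : F, t ≠ 0 → ∀ f ∈ M, ∃ g ∈ M, ∀ u, g (t * u) = t * f u)
    (hfpf : ∀ t : F, t ≠ 0 → t ≠ 1 → ∀ f ∈ M, (∀ u, f (t * u) = t * f u) → f = 0)
    (h4 : ∃ t : F, t ≠ 0 ∧ t ≠ 1)
    (r : ℕ) (c : F) (hc : c ≠ 0) (g : F →+ F) (hg : g ∈ M) (hgc : ∀ u, g u = c * u ^ (2 ^ r)) :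
    (∃ u : F, u ^ (2 ^ r) ≠ u) ∧ ∀ c' : F, ∃ g' ∈ M, ∀ u, g' u = c' * u ^ (2 ^ r) := by
  have hg1 : g 1 = c := by rw [hgc]; simp
  have hg0 : g ≠ 0 := by
    intro h
    rw [h] at hg1
    exact hc (by simpa using hg1.symm)
  have hker : ∀ t : F, t ≠ 0 → t ^ (2 ^ r) = t → t = 1 := by
    intro t ht htr
    by_contra h1
    apply hg0
    apply hfpf t ht h1 g hg
    intro u
    rw [hgc, hgc, mul_pow, htr]; ring
  constructor
  · obtain ⟨t, ht0, ht1⟩ := h4
    exact ⟨t, fun h => ht1 (hker t ht0 h)⟩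
  · intro c'
    by_cases hc' : c' = 0
    · exact ⟨0, M.zero_mem, fun u => by simp [hc']⟩
    · let φ : Fˣ →* Fˣ :=
        { toFun := fun t => t * (t ^ (2 ^ r))⁻¹
          map_one' := by simp
          map_mul' := fun a b => by rw [mul_pow, mul_inv]; exact mul_mul_mul_comm _ _ _ _ }
      have hinj : Function.Injective φ := by
        rw [injective_iff_map_eq_one]
        intro t ht
        have h1 : t ^ (2 ^ r) = t := by
          have h2 : t * (t ^ (2 ^ r))⁻¹ = 1 := ht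
          rw [mul_inv_eq_one] at h2
          exact h2.symm
        apply Units.ext
        apply hker t t.ne_zero
        have := congrArg Units.val h1
        simpa using this
      have hsurj := Finite.injective_iff_surjective.1 hinj
      obtain ⟨t, ht⟩ := hsurj (Units.mk0 c' hc' * (Units.mk0 c hc)⁻¹)
      obtain ⟨g', hg', hgg⟩ := hM t t.ne_zero g hg
      refine ⟨g', hg', fun u => ?_⟩
      have h1 : (t : F) * ((t : F) ^ (2 ^ r))⁻¹ = c' * c⁻¹ := by
        have := congrArg Units.val ht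
        simpa [φ] using this
      have h2 := hgg ((t : F)⁻¹ * u)
      rw [mul_inv_cancel_left₀ t.ne_zero, hgc, mul_pow, inv_pow] at h2
      rw [h2]
      have h3 : c' = (t : F) * ((t : F) ^ (2 ^ r))⁻¹ * c := by
        rw [h1]; field_simp
      rw [h3]; ring

end Cfsg.Agent.Lib.Helper72.Suz
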