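import Mathlib

/-!
# Ladder SUZ2, rung A5 (and common finite-field helpers)
-/

set_option autoImplicit false

namespace Cfsg.Agent.Lib.Helper72.Suz

variable {F : Type*} [Field F] [Fintype F] [CharP F 2]

omit [Fintype F] in
lemma add_pow_two_pow (x y : F) (k : ℕ) : (x + y) ^ (2 ^ k) = x ^ (2 ^ k) + y ^ (2 ^ k) :=
  add_pow_char_pow x y 2 k

omit [CharP F 2] in
lemma exists_orderOf_eq : ∃ w : F, w ≠ 0 ∧ orderOf w = Fintype.card F - 1 ∧
    ∀ x : F, x ≠ 0 → ∃ j : ℕ, x = w ^ j := by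
  classical
  obtain ⟨g, hg⟩ := IsCyclic.exists_generator (α := Fˣ)
  refine ⟨g, g.ne_zero, ?_, ?_⟩
  · rw [orderOf_units, orderOf_eq_card_of_forall_mem_zpowers hg, Nat.card_eq_fintype_card,
      Fintype.card_units]
  · intro x hx
    have h1 : Units.mk0 x hx ∈ Subgroup.zpowers g := hg _
    rw [← mem_powers_iff_mem_zpowers] at h1
    obtain ⟨j, hj⟩ := h1
    refine ⟨j, ?_⟩
    have := congrArg Units.val hj
    simpa using this.symm

omit [Fintype F] [CharP F 2] in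
lemma pow_eq_pow_iff_modEq' {w : F} (hw : w ≠ 0) (a b : ℕ) :
    w ^ a = w ^ b ↔ a ≡ b [MOD orderOf w] := by
  have h1 : orderOf w = orderOf (Units.mk0 w hw) := by
    rw [← orderOf_units]; rfl
  rw [h1, ← pow_eq_pow_iff_modEq, Units.ext_iff]
  simp

omit [CharP F 2] in
lemma frob_pow_inj (n : ℕ) (hn : Fintype.card F = 2 ^ n) {i j : ℕ} (hi : i < n) (hj : j < n)
    (h : ∀ b : F, b ^ (2 ^ i) = b ^ (2 ^ j)) : i = j := by
  obtain ⟨w, hw0, hw, -⟩ := exists_orderOf_eq (F := F)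
  have h1 := h w
  rw [pow_eq_pow_iff_modEq' hw0, hw, hn] at h1
  rcases Nat.lt_or_ge n 2 with h2 | h2
  · omega
  · have hlt : ∀ k, k < n → 2 ^ k < 2 ^ n - 1 := by
      intro k hk
      have h3 : 2 ^ k ≤ 2 ^ (n - 1) := Nat.pow_le_pow_right (by norm_num) (by omega)
      have h4 : 2 ^ n = 2 * 2 ^ (n - 1) := by
        rw [← pow_succ']; congr 1; omega
      have h5 : 2 ≤ 2 ^ (n - 1) := by
        calc 2 = 2 ^ 1 := by norm_num
          _ ≤ 2 ^ (n - 1) := Nat.pow_le_pow_right (by norm_num) (by omega)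
      omega
    have := Nat.ModEq.eq_of_lt_of_lt h1 (hlt i hi) (hlt j hj)
    exact Nat.pow_right_injective (le_refl 2) this

private lemma A5_aux (n : ℕ) (hn : Fintype.card F = 2 ^ n) (r s : ℕ) (hr0 : 0 < r) (hr : r < n)
    (hs : s < n) (a : F) (g : F → F) (hadd : ∀ b b', g (b + b') = g b + g b')
    (h : ∀ b, a * g b ^ (2 ^ r) = b * g b ^ (2 ^ s)) (b0 : F) (hb0 : g b0 ≠ 0) : r = s + 1 := by
  have hcross : ∀ b1 b2, b1 * g b2 ^ (2 ^ s) = b2 * g b1 ^ (2 ^ s) := by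
    intro b1 b2
    have h12 := h (b1 + b2)
    rw [hadd, add_pow_two_pow, add_pow_two_pow, mul_add, h b1, h b2] at h12
    have : b1 * g b2 ^ (2 ^ s) + b2 * g b1 ^ (2 ^ s) = 0 := by linear_combination -h12
    exact CharTwo.add_eq_zero.1 this
  set k := g 1 ^ (2 ^ s) with hk
  have hgk : ∀ b, g b ^ (2 ^ s) = b * k := by
    intro b
    have := hcross 1 b
    rwa [one_mul] at this
  have hk0 : k ≠ 0 := by
    intro hk0
    have := hgk b0
    rw [hk0, mul_zero] at this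
    exact hb0 (pow_eq_zero_iff (by positivity) |>.1 this)
  have hraise : ∀ b, a ^ (2 ^ s) * (b * k) ^ (2 ^ r) = b ^ (2 ^ s) * (b * k) ^ (2 ^ s) := by
    intro b
    have := congrArg (· ^ (2 ^ s)) (h b)
    rw [mul_pow, mul_pow, ← pow_mul, mul_comm (2 ^ r) (2 ^ s), pow_mul, hgk] at this
    exact this
  have h1 := hraise 1
  rw [one_mul, one_pow, one_mul] at h1
  have hb : ∀ b : F, b ^ (2 ^ r) = b ^ (2 ^ (s + 1)) := by
    intro b
    have h2 := hraise b
    rw [mul_pow, mul_pow] at h2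
    have h3 : k ^ (2 ^ s) * b ^ (2 ^ r) = k ^ (2 ^ s) * b ^ (2 ^ (s + 1)) := by
      rw [pow_succ 2 s, mul_two, pow_add]
      linear_combination h2 - b ^ (2 ^ r) * h1
    exact mul_left_cancel₀ (pow_ne_zero _ hk0) h3
  rcases Nat.lt_or_ge (s + 1) n with h4 | h4
  · exact frob_pow_inj n hn hr h4 hb
  · have h5 : s + 1 = n := by omega
    exfalso
    have : r = 0 := by
      apply frob_pow_inj n hn hr (by omega)
      intro b
      rw [hb b, h5, ← hn, FiniteField.pow_card, pow_zero, pow_one]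
    omega

/-- A5 -/
theorem no_bilinear (n : ℕ) (hn : Fintype.card F = 2 ^ n) (r s : ℕ) (hr0 : 0 < r) (hr : r < n)
    (hs0 : 0 < s) (hs : s < n) (hrs : r ≠ s) (β : F → F → F)
    (h1 : ∀ a a' b, β (a + a') b = β a b + β a' b) (h2 : ∀ a b b', β a (b + b') = β a b + β a b')
    (h : ∀ a b, a * β a b ^ (2 ^ r) = b * β a b ^ (2 ^ s)) : ∀ a b, β a b = 0 := by
  intro a b
  by_contra hne
  have e1 : r = s + 1 := A5_aux n hn r s hr0 hr hs a (β a) (h2 a) (h a) b hne
  have e2 : s = r + 1 := A5_aux n hn s r hs0 hs hr b (fun a => β a b) (fun a a' => h1 a a' b)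
    (fun a => (h a b).symm) a hne
  omega

end Cfsg.Agent.Lib.Helper72.Suz
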